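import Cfsg.Agent.Chev.Cover.Kernel
import Cfsg.Agent.Chev.Simple

/-!
# Perfectness of the lifts
-/

set_option autoImplicit false

namespace CfsgLib.Chev

open Cfsg.Lie Matrix
open scoped commutatorElement

universe u w

namespace Lift

variable {D : ChevalleyDatum} {S : Sys.{u} D} {F : Type u} [Field F] {Γ : Type w} [Group Γ]
  (Y : Lift S F Γ)

theorem mem_commutator_of_torus' (hg : GenOK D) {q i : ℕ} (hq : q < D.rank) (hi : i < D.rank)
    (t : Fˣ) (ht : ((t ^ D.cartan q (D.simple i) : Fˣ) : F) ≠ 1) (v : F) :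
    Y.x (D.simple i) v ∈ commutator Γ := by
  set a := ((t ^ D.cartan q (D.simple i) : Fˣ) : F) with ha
  have hm : Y.h (D.simple q) (t : F) ∈ Y.HB :=
    Subgroup.subset_closure ⟨q, _, hq, t.ne_zero, rfl⟩
  have hπ : Y.π (Y.h (D.simple q) (t : F)) = S.dg (hz D (D.simple q) t) := by
    rw [h, map_mul, Y.π_n (S.simple_lt hq), Y.π_n (S.simple_lt hq), ← S.hU_eq,
      S.hU_eq_dg (S.simple_lt hq)]
  have e : Y.x (D.simple i) v = ⁅Y.h (D.simple q) (t : F), Y.x (D.simple i) (v / (a - 1))⁆ := by
    rw [commutatorElement_def, Y.HB_conj_x hg hm hπ (S.simple_lt hi),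
      S.chi_hz_simple hq t (S.simple_lt hi), ← ha, Y.x_inv (S.simple_lt hi),
      Y.x_add _ (S.simple_lt hi)]
    congr 1
    field_simp [sub_ne_zero.2 ht]
    ring
  rw [e, commutator_def]
  exact Subgroup.commutator_mem_commutator (Subgroup.mem_top _) (Subgroup.mem_top _)

theorem mem_commutator_of_single' {ks : List ℕ} {i : ℕ} (hks : ∀ k ∈ ks, (k : F) ≠ 0)
    (h : singleTerm D ks i = true) (u : F) : Y.x (D.simple i) u ∈ commutator Γ := by
  simp only [singleTerm, List.any_eq_true, List.mem_range] at h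
  obtain ⟨q, hq, h⟩ := h
  split at h
  · exact absurd h (by simp)
  rename_i b hb
  simp only [Bool.and_eq_true, decide_eq_true_eq] at h
  obtain ⟨⟨⟨hbn, hb1⟩, hb2⟩, h⟩ := h
  split at h
  · rename_i c hc
    obtain ⟨k, C, e1, e2⟩ := c
    simp only [Bool.and_eq_true, decide_eq_true_eq] at h
    obtain ⟨⟨⟨hk, hC⟩, he1⟩, he2⟩ := h
    subst hk he1 he2
    have hC0 : (C : F) ≠ 0 := by
      intro h0
      apply hks _ hC
      rcases Int.natAbs_eq C with e | e <;> rw [e] at h0
      · simpa using h0
      · simpa using h0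
    have hne : D.neg (D.simple q) < D.nroots := S.neg_lt (S.simple_lt hq)
    have hw := Y.comm (D.neg (D.simple q)) b (-(u / (C : F))) 1 hne hbn hb1 hb2
    rw [ChevalleyDatum.commWord, hc] at hw
    simp only [List.map_cons, List.map_nil, List.prod_cons, List.prod_nil, mul_one, pow_one] at hw
    rw [show (C : F) * - -(u / (C : F)) = u by field_simp] at hw
    have e : Y.x (D.simple i) u =
        ⁅(Y.x b 1)⁻¹, (Y.x (D.neg (D.simple q)) (-(u / (C : F))))⁻¹⁆ := by
      rw [commutatorElement_def, inv_inv, inv_inv, ← hw]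
    rw [e, commutator_def]
    exact Subgroup.commutator_mem_commutator (Subgroup.mem_top _) (Subgroup.mem_top _)
  · exact absurd h (by simp)

theorem commutator_eq_top' (hg : GenOK D)
    (h : ∀ i < D.rank, ∀ v : F, Y.x (D.simple i) v ∈ commutator Γ) : commutator Γ = ⊤ := by
  have key : ∀ r < D.nroots, ∀ v : F, Y.x r v ∈ commutator Γ := by
    refine S.descend h fun q hq r hr ih v => ?_
    have hn : (commutator Γ).Normal := Subgroup.commutator_normal ⊤ ⊤
    have hc := hn.conj_mem _ (ih ((S.eta q r : F) * v)) (Y.n (D.simple q) 1)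
    rwa [Y.n1_conj_x hg hq hr, ← mul_assoc, ← Int.cast_mul, S.eta_sq hq hr, Int.cast_one,
      one_mul] at hc
  rw [eq_top_iff, ← Y.top, Subgroup.closure_le]
  rintro g ⟨r, t, hr, rfl⟩
  exact key r hr t

include Y in
theorem perfect_all' (hg : GenOK D) (h : perfAll D = true) : commutator Γ = ⊤ := by
  simp only [perfAll, List.all_eq_true, List.mem_range] at h
  exact Y.commutator_eq_top' hg fun i hi u =>
    Y.mem_commutator_of_single' (fun k hk => by simp at hk; simp [hk]) (h i hi) u

include Y in
theorem perfect_big' (hg : GenOK D) (h : perfBig D = true) (hF : ∃ a : F, a ≠ 0 ∧ a ≠ 1) :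
    commutator Γ = ⊤ := by
  simp only [perfBig, List.all_eq_true, List.mem_range, Bool.or_eq_true] at h
  obtain ⟨a, ha0, ha1⟩ := hF
  refine Y.commutator_eq_top' hg fun i hi u => ?_
  by_cases hsq : a ^ 2 = 1
  · have ha : a = -1 := by
      have : (a - 1) * (a + 1) = 0 := by linear_combination hsq
      exact eq_neg_of_add_eq_zero_left ((mul_eq_zero.1 this).resolve_left (sub_ne_zero.2 ha1))
    have h2 : (2 : F) ≠ 0 := by
      intro h0
      apply ha1
      rw [ha]
      linear_combination -h0
    rcases h i hi with h' | h'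
    · exact Y.mem_commutator_of_single' (fun k hk => by
        simp only [List.mem_cons, List.not_mem_nil, or_false] at hk
        rcases hk with rfl | rfl
        · simp
        · simpa using h2) h' u
    · simp only [oddBond, List.any_eq_true, List.mem_range, decide_eq_true_eq] at h'
      obtain ⟨q, hq, hodd⟩ := h'
      refine Y.mem_commutator_of_torus' hg hq hi (-1 : Fˣ) ?_ u
      have hodd' : Odd (D.cartan q (D.simple i)) := by
        rw [← Int.natAbs_odd]; exact Nat.odd_iff.2 hodd
      rw [Units.val_zpow_eq_zpow_val, Units.val_neg, Units.val_one, hodd'.neg_one_zpow, ← ha]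
      exact ha1
  · refine Y.mem_commutator_of_torus' hg hi hi (Units.mk0 a ha0) ?_ u
    rw [S.cartan_self i hi, Units.val_zpow_eq_zpow_val, Units.val_mk0]
    exact_mod_cast hsq

end Lift

end CfsgLib.Chev
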