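import Cfsg.Agent.Chev.Cover.Groups
import Cfsg.Agent.Chev.Cover.Symbol
import Cfsg.Agent.Chev.Cover.Perfect
import Cfsg.Agent.Chev.Bruhat
import Cfsg.Agent.Chev.GroupOrder
import Cfsg.Agent.Schur.CoprimeLift

/-!
# The presented group is universal when the characteristic does not divide a multiplier

If no cover of degree `p = char F` has its kernel in the commutator subgroup, every stem extension
of the Chevalley group is a quotient of Steinberg's group.
-/

set_option autoImplicit false

namespace CfsgLib.Chev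

open Cfsg.Lie Matrix CfsgLib.Schur
open scoped commutatorElement

universe u

/-- No cover of degree `p` of the Chevalley group is a stem extension. -/
def NoPCover (D : ChevalleyDatum) (F : Type u) [Field F] (p : ℕ) : Prop :=
  ∀ (Δ : Type u) [Group Δ] [Finite Δ] (τ : Δ →* D.group F) (e : Δ),
    PrimeCover τ e p → e ∈ commutator Δ → False

namespace Sys

variable {D : ChevalleyDatum} (S : Sys.{u} D)

/-- Two roots which are not opposite lie in a common positive system. -/
theorem exists_word_pos : ∀ r < D.nroots, ∀ s < D.nroots, s ≠ D.neg r →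
    ∃ L : List ℕ, (∀ q ∈ L, q < D.rank) ∧ D.nroots / 2 ≤ Sys.wN (S.wprod L) r ∧
      D.nroots / 2 ≤ Sys.wN (S.wprod L) s := by
  obtain ⟨L₀, hL₀, hw₀⟩ := S.exists_longest
  have hn := S.even_nroots
  have hw₀' : ∀ r < D.nroots, r < D.nroots / 2 → D.nroots / 2 ≤ Sys.wN (S.wprod L₀) r := by
    intro r hr hneg
    have h := hw₀ ⟨D.neg r, S.neg_lt hr⟩ (by show D.nroots / 2 ≤ D.neg r; rw [S.neg_eq r hr]; omega)
    rw [S.wprod_neg hL₀ ⟨r, hr⟩ _ rfl, S.neg_eq _ (Fin.is_lt _)] at h
    simp only [Sys.wN, dif_pos hr]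
    omega
  refine S.descend ?_ ?_
  · intro q hq s hs hne
    by_cases hpos : D.nroots / 2 ≤ s
    · exact ⟨[], by simp, by simp [Sys.wN, S.simple_lt hq, (S.simple_pos q hq).1],
        by simp [Sys.wN, hs, hpos]⟩
    · have hpq : ∀ x (hx : x < D.nroots),
          Sys.wN (S.wprod (L₀ ++ [q])) x = Sys.wN (S.wprod L₀) (S.pi q x) := fun x hx => by
        simp only [Sys.wN, dif_pos hx, dif_pos (S.pi_lt q hq x hx)]
        rw [wprod_append, Equiv.Perm.mul_apply]
        congr 2
        exact Fin.ext (by simp [wprod, S.refl_apply hq])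
      refine ⟨L₀ ++ [q], by simp only [List.mem_append, List.mem_singleton]; rintro x (hx | rfl)
                            · exact hL₀ x hx
                            · exact hq, ?_, ?_⟩
      · rw [hpq _ (S.simple_lt hq), S.pi_simple q hq]
        refine hw₀' _ (S.neg_lt (S.simple_lt hq)) ?_
        rw [S.neg_eq _ (S.simple_lt hq)]
        have := (S.simple_pos q hq).1
        omega
      · rw [hpq _ hs]
        refine hw₀' _ (S.pi_lt q hq s hs) ?_
        by_contra hge
        have h := S.pi_pos q hq (S.pi q s) (S.pi_lt q hq s hs) (not_lt.1 hge) (fun e => ?_)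
        · rw [S.pi_pi q hq s hs] at h; exact hpos h
        · have e' := congrArg (S.pi q) e
          rw [S.pi_pi q hq s hs, S.pi_simple q hq] at e'
          exact hne e'
  · intro q hq r hr ih s hs hne
    obtain ⟨L, hL, h1, h2⟩ := ih (S.pi q s) (S.pi_lt q hq s hs) (fun e => hne (by
      have := congrArg (S.pi q) e
      rwa [S.pi_pi q hq s hs, S.pi_neg q hq r hr] at this))
    have hpq : ∀ x (hx : x < D.nroots),
        Sys.wN (S.wprod (L ++ [q])) x = Sys.wN (S.wprod L) (S.pi q x) := fun x hx => by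
      simp only [Sys.wN, dif_pos hx, dif_pos (S.pi_lt q hq x hx)]
      rw [wprod_append, Equiv.Perm.mul_apply]
      congr 2
      exact Fin.ext (by simp [wprod, S.refl_apply hq])
    refine ⟨L ++ [q], by simp only [List.mem_append, List.mem_singleton]; rintro x (hx | rfl)
                         · exact hL x hx
                         · exact hq, ?_, ?_⟩
    · rw [hpq _ (S.pi_lt q hq r hr), S.pi_pi q hq r hr]; exact h1
    · rw [hpq s hs]; exact h2

variable {F : Type u} [Field F]

theorem wU_mem_group' (w : List (ℕ × F)) : S.wU w ∈ D.group F := by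
  induction w with
  | nil => exact one_mem _
  | cons a w ih => obtain ⟨r, t⟩ := a; rw [S.wU_cons]; exact mul_mem (S.xU_mem_group r t) ih

/-- A root element as an element of the group. -/
def xg (r : ℕ) (t : F) : D.group F := ⟨S.xU r t, S.xU_mem_group r t⟩

theorem coe_xg (r : ℕ) (t : F) : ((S.xg r t : D.group F) : GL D.Idx F) = S.xU r t := rfl

theorem xU_pow (r : ℕ) (t : F) : ∀ n : ℕ, S.xU r t ^ n = S.xU r ((n : F) * t)
  | 0 => by simp
  | n + 1 => by rw [pow_succ, xU_pow r t n, S.xU_add]; push_cast; rw [add_mul, one_mul]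

variable [Finite F] (p : ℕ) [hp : Fact p.Prime] [CharP F p]
include S

theorem isPGroup_pos : IsPGroup p (D.posUnipotent F) := by
  haveI := Fintype.ofFinite F
  obtain ⟨⟨n, hn⟩, -, hn2⟩ := FiniteField.card F p
  refine IsPGroup.of_card (n := n * (D.nroots / 2)) ?_
  rw [S.card_pos, Nat.card_eq_fintype_card, hn2, pow_mul]
  rfl

/-- The subgroup of root elements made positive by a word. -/
def wUnip (L : List ℕ) : Subgroup (D.group F) :=
  (D.posUnipotent F).comap ((MulAut.conj (S.nw F L)).toMonoidHom.comp (D.group F).subtype)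

theorem isPGroup_wUnip (L : List ℕ) : IsPGroup p (S.wUnip (F := F) L) :=
  (S.isPGroup_pos (F := F) p).comap_of_injective _
    ((MulAut.conj (S.nw F L)).injective.comp Subtype.val_injective)

theorem xg_mem_wUnip {L : List ℕ} (hL : ∀ q ∈ L, q < D.rank) {r : ℕ} (hr : r < D.nroots)
    (h : D.nroots / 2 ≤ Sys.wN (S.wprod L) r) (t : F) : S.xg r t ∈ S.wUnip (F := F) L := by
  obtain ⟨c, hc⟩ := S.acts_nw (F := F) hL ⟨r, hr⟩
  show MulAut.conj (S.nw F L) (S.xU r t) ∈ D.posUnipotent F
  rw [MulAut.conj_apply, hc t]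
  simp only [Sys.wN, dif_pos hr] at h
  exact S.xU_mem_posUnipotent h (Fin.is_lt _) _

end Sys

namespace Sys

variable {D : ChevalleyDatum} (S : Sys.{u} D) (hg : GenOK D) {F : Type u} [Field F] [Finite F]
  {p : ℕ} [hp : Fact p.Prime] [CharP F p]
include S hg

/-- **Universality.** Every stem extension is a quotient of Steinberg's group. -/
theorem exists_factor (hno : NoPCover D F p) {Γ : Type u} [Group Γ] [Finite Γ]
    {σ : Γ →* D.group F} (hσ : Cfsg.IsStemExtension σ) :
    ∃ ψ : D.SteinbergGroup F →* Γ, Function.Surjective ψ ∧ σ.comp ψ = (S.stLift F).θ := by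
  classical
  have hn := not_dvd_card_ker hσ hp.out hno
  obtain ⟨hs, hc, hst⟩ := hσ
  haveI : Finite (D.group F) := Finite.of_surjective σ hs
  have hpx : ∀ r t, IsPEl p (S.xg r t : D.group F) := fun r t =>
    ⟨1, Subtype.ext (by
      rw [Subgroup.coe_pow, S.coe_xg, pow_one, S.xU_pow, CharP.cast_eq_zero F p, zero_mul,
        S.xU_zero]; rfl)⟩
  choose x hxσ hxp using fun r t => exists_pel hs hc hn (hpx r t)
  have hwd : ∀ L : List ℕ, (∀ q ∈ L, q < D.rank) → ∀ r < D.nroots,
      D.nroots / 2 ≤ Sys.wN (S.wprod L) r → ∀ t,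
      x r t ∈ pelLift hc hn (S.isPGroup_wUnip (F := F) p L) := fun L hL r hr h t =>
    ⟨by rw [hxσ]; exact S.xg_mem_wUnip hL hr h t, hxp r t⟩
  let Γ₀ : Subgroup Γ := Subgroup.closure {g | ∃ (r : ℕ) (t : F), r < D.nroots ∧ g = x r t}
  have hσtop : Γ₀.map σ = ⊤ := by
    rw [eq_top_iff]
    intro g _
    have hg' : (g : GL D.Idx F) ∈ Subgroup.closure ((S.stLift F).π '' {g | ∃ (r : ℕ) (t : F), r < D.nroots ∧
        g = (S.stLift F).x r t}) := by
      rw [← MonoidHom.map_closure, (S.stLift F).top, ← MonoidHom.range_eq_map, (S.stLift F).π_range]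
      exact g.2
    have hle : Subgroup.closure ((S.stLift F).π '' {g | ∃ (r : ℕ) (t : F), r < D.nroots ∧
        g = (S.stLift F).x r t}) ≤ (Γ₀.map σ).map (D.group F).subtype := by
      rw [Subgroup.closure_le]
      rintro _ ⟨_, ⟨r, t, hr, rfl⟩, rfl⟩
      exact ⟨σ (x r t), ⟨x r t, Subgroup.subset_closure ⟨r, t, hr, rfl⟩, rfl⟩, by
        rw [hxσ, (S.stLift F).π_x r hr]; rfl⟩
    obtain ⟨g', hg1, hg2⟩ := hle hg'
    rwa [← Subtype.val_injective hg2]
  have htop : Γ₀ = ⊤ := by
    have hdec : ∀ g : Γ, ∃ a ∈ Γ₀, ∃ z ∈ σ.ker, g = a * z := fun g => by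
      obtain ⟨a, ha, hag⟩ := (hσtop ▸ Subgroup.mem_top (σ g) : σ g ∈ Γ₀.map σ)
      exact ⟨a, ha, a⁻¹ * g, by rw [MonoidHom.mem_ker, map_mul, map_inv, hag, inv_mul_cancel], by group⟩
    have hcomm : commutator Γ ≤ Γ₀ := by
      rw [commutator_def, Subgroup.commutator_le]
      intro g _ g' _
      obtain ⟨a, ha, z, hz, rfl⟩ := hdec g
      obtain ⟨a', ha', z', hz', rfl⟩ := hdec g'
      have h1 := Subgroup.mem_center_iff.1 (hc hz)
      have h2 := Subgroup.mem_center_iff.1 (hc hz')
      rw [show ⁅a * z, a' * z'⁆ = a * a' * a⁻¹ * a'⁻¹ by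
        simp only [commutatorElement_def]
        calc a * z * (a' * z') * (a * z)⁻¹ * (a' * z')⁻¹
            = a * (z * (a' * z')) * z⁻¹ * (a⁻¹ * z'⁻¹) * a'⁻¹ := by group
          _ = a * (a' * z' * z) * z⁻¹ * (a⁻¹ * z'⁻¹) * a'⁻¹ := by rw [← h1]
          _ = a * a' * (z' * a⁻¹) * z'⁻¹ * a'⁻¹ := by group
          _ = a * a' * (a⁻¹ * z') * z'⁻¹ * a'⁻¹ := by rw [← h2]
          _ = a * a' * a⁻¹ * a'⁻¹ := by group]
      exact mul_mem (mul_mem (mul_mem ha ha') (inv_mem ha)) (inv_mem ha')
    rw [eq_top_iff]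
    intro g _
    obtain ⟨a, ha, z, hz, rfl⟩ := hdec g
    exact mul_mem ha (hcomm (hst hz))
  let Y : Lift S F Γ :=
    { x := x
      π := (D.group F).subtype.comp σ
      top := htop
      π_x := fun r _ t => by
        show ((σ (x r t) : D.group F) : GL D.Idx F) = _
        rw [hxσ]; rfl
      x_add := fun r hr t v => by
        obtain ⟨L, hL, h1, -⟩ := S.exists_word_pos r hr r hr (S.neg_ne hr).symm
        refine pelLift_injOn hc hn (S.isPGroup_wUnip (F := F) p L)
          (mul_mem (hwd L hL r hr h1 t) (hwd L hL r hr h1 v)) (hwd L hL r hr h1 _) (Subtype.ext ?_)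
        rw [map_mul, hxσ, hxσ, hxσ, Subgroup.coe_mul, S.coe_xg, S.coe_xg, S.coe_xg, S.xU_add]
      comm := fun r s t v hr hs hsr hsn => by
        obtain ⟨L, hL, h1, h2⟩ := S.exists_word_pos r hr s hs hsn
        refine pelLift_injOn hc hn (S.isPGroup_wUnip (F := F) p L)
          (mul_mem (mul_mem (mul_mem (inv_mem (hwd L hL s hs h2 v)) (inv_mem (hwd L hL r hr h1 t)))
            (hwd L hL s hs h2 v)) (hwd L hL r hr h1 t))
          (list_prod_mem fun y hy => ?_) (Subtype.ext ?_)
        · simp only [List.mem_map, ChevalleyDatum.commWord, exists_exists_and_eq_and] at hy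
          obtain ⟨c, hc', rfl⟩ := hy
          obtain ⟨h3, h4, -⟩ := S.commTerms_wN (S.wprod_mem_weyl L) hr hs h1 h2 hc'
          exact hwd L hL c.1 h3 (by omega) _
        · rw [map_mul, map_mul, map_mul, map_inv, map_inv, hxσ, hxσ]
          push_cast
          rw [S.coe_xg, S.coe_xg, map_list_prod, List.map_map, SubmonoidClass.coe_list_prod,
            List.map_map, mul_assoc ((S.xU s v)⁻¹ * (S.xU r t)⁻¹), S.comm_wU hr hs hsr hsn,
            show ((S.xU s v)⁻¹ * (S.xU r t)⁻¹) * (S.xU r t * S.xU s v * S.wU (D.commWord F r s t v)) =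
              S.wU (D.commWord F r s t v) by group, Sys.wU]
          exact congrArg List.prod (List.map_congr_left fun q _ => by simp [hxσ, Sys.xg]) }
  have hR3 := Y.h_mul_all hg
  have hlift : ∀ l : List (ℕ × F), (∀ q ∈ l, q.1 < D.nroots) →
      FreeGroup.lift (fun q : Fin D.nroots × F => x q.1 q.2) (D.stWord l) =
        (l.map fun q => x q.1 q.2).prod := fun l hl => by
    rw [ChevalleyDatum.stWord, map_list_prod, List.map_map]
    refine congrArg List.prod (List.map_congr_left fun q hq => ?_)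
    simp [ChevalleyDatum.stX, hl q hq]
  have hstX : ∀ r < D.nroots, ∀ t, FreeGroup.lift (fun q : Fin D.nroots × F => x q.1 q.2)
      (D.stX r t) = x r t := fun r hr t => by simp [ChevalleyDatum.stX, hr]
  have hH : ∀ r < D.nroots, ∀ t, FreeGroup.lift (fun q : Fin D.nroots × F => x q.1 q.2)
      (D.stH r t) = Y.h r t := fun r hr t => by
    rw [ChevalleyDatum.stH, hlift]
    · simp only [ChevalleyDatum.hWord, ChevalleyDatum.nWord, List.map_append, List.map_cons,
        List.map_nil, List.prod_append, List.prod_cons, List.prod_nil, mul_one, Lift.h, Lift.n,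
        mul_assoc]
      rfl
    · intro q hq
      simp only [ChevalleyDatum.hWord, ChevalleyDatum.nWord, List.mem_append, List.mem_cons,
        List.not_mem_nil, or_false] at hq
      rcases hq with (rfl | rfl | rfl) | (rfl | rfl | rfl) <;> first | exact hr | exact S.neg_lt hr
  have hrel : ∀ g ∈ D.steinbergRels F, FreeGroup.lift (fun q : Fin D.nroots × F => x q.1 q.2) g = 1 := by
    rintro g ((⟨r, t, v, hr, rfl⟩ | ⟨r, s, t, v, hr, hs', h1, h2, rfl⟩) | ⟨r, t, v, hr, ht, hv, rfl⟩)
    · rw [map_mul, map_mul, map_inv, hstX r hr, hstX r hr, hstX r hr, mul_inv_eq_one]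
      exact Y.x_add r hr t v
    · rw [map_mul, map_mul, map_mul, map_mul, map_inv, map_inv, map_inv, hstX r hr, hstX s hs',
        hlift, mul_inv_eq_one]
      · exact Y.comm r s t v hr hs' h1 h2
      · intro q hq
        simp only [ChevalleyDatum.commWord, List.mem_map] at hq
        obtain ⟨c, hc', rfl⟩ := hq
        exact (S.commTerms_spec hr hs' hc').1
    · rw [map_mul, map_mul, map_inv, hH r hr, hH r hr, hH r hr, mul_inv_eq_one]
      exact hR3 r hr t v ht hv
  let ψ : D.SteinbergGroup F →* Γ :=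
    PresentedGroup.toGroup (f := fun q : Fin D.nroots × F => x q.1 q.2) hrel
  refine ⟨ψ, MonoidHom.range_eq_top.1 (eq_top_iff.2 ?_), ?_⟩
  · rw [← htop, Subgroup.closure_le]
    rintro g ⟨r, t, hr, rfl⟩
    exact ⟨PresentedGroup.of (⟨r, hr⟩, t), PresentedGroup.toGroup.of hrel⟩
  · refine PresentedGroup.ext fun q => ?_
    rw [MonoidHom.comp_apply, show ψ (PresentedGroup.of q) = x q.1 q.2 from PresentedGroup.toGroup.of hrel,
      hxσ]
    refine Subtype.ext (Units.ext ?_)
    rw [show (PresentedGroup.of q : D.SteinbergGroup F) = (S.stLift F).x q.1 q.2 from by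
      rw [S.stLift_x]; simp [ChevalleyDatum.stGen, ChevalleyDatum.stX, PresentedGroup.of],
      (S.stLift F).θ_x q.1.2]
    rfl

end Sys

end CfsgLib.Chev
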